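import Groth.Agent.LimSmooth.Affine
import Groth.Agent.H8Lim.Descent
import Groth.Agent.H8Lim.Topology

/-!
# Spreading out of local properties along limits of schemes
-/

set_option autoImplicit false
set_option backward.isDefEq.respectTransparency.types false
universe u

open CategoryTheory Limits AlgebraicGeometry

namespace Groth.Agent.LimSmooth

variable {P : MorphismProperty Scheme.{u}} [P.IsStableUnderBaseChange] [P.IsStableUnderComposition]

theorem of_comp_mono (hP : P.IsStableUnderBaseChange) {X Y Z : Scheme.{u}} (b : X ⟶ Y) (ι : Y ⟶ Z) [Mono ι]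
    (h : P (b ≫ ι)) : P b := by
  have sq : IsPullback (𝟙 X) b (b ≫ ι) ι :=
    ⟨⟨by simp⟩, ⟨PullbackCone.IsLimit.mk (by simp) (fun s => s.fst) (fun s => Category.comp_id _)
      (fun s => by rw [← cancel_mono ι, Category.assoc]; exact s.condition)
      (fun s m h₁ _ => by simpa using h₁)⟩⟩
  exact hP.of_isPullback sq h

variable {I : Type u} [SmallCategory I] [IsCofiltered I] {D : I ⥤ Scheme.{u}}
  [∀ (i j : I) (f : i ⟶ j), IsAffineHom (D.map f)] {c : Cone D} (hc : IsLimit c) {i₀ : I}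
  {X₀ Y₀ : Scheme.{u}} {f₀ : X₀ ⟶ Y₀} {g₀ : Y₀ ⟶ D.obj i₀}
  {X Y : Scheme.{u}} {f : X ⟶ Y} {g : Y ⟶ c.pt} {qY : Y ⟶ Y₀} {qX : X ⟶ X₀}
  (hY : IsPullback qY g g₀ (c.π.app i₀)) (hX : IsPullback qX f f₀ qY)

include hc hY hX in
/-- A chart: if `f` has `P` over an affine open `U ⊆ X₀` mapping to an affine open `W ⊆ Y₀`, so does a stage. -/
theorem exists_chart (hA : AffineSpreads P) (hιP : ∀ {A B : Scheme.{u}} (ι : A ⟶ B) [IsOpenImmersion ι], P ι)
    {U : X₀.Opens} {W : Y₀.Opens} (hU : IsAffineOpen U) (hW : IsAffineOpen W) (e : U ≤ f₀ ⁻¹ᵁ W)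
    [LocallyOfFinitePresentation f₀] (hP : P ((qX ⁻¹ᵁ U).ι ≫ f)) :
    ∃ (j : I) (φ : j ⟶ i₀), P (pullback.snd (U.ι ≫ f₀) (pullback.fst g₀ (D.map φ))) := by
  haveI : ∀ {i j : I} (f : i ⟶ j), IsAffineHom (D.map f) := fun f => inferInstance
  let r : (U : Scheme) ⟶ W := f₀.resLE W U e
  haveI : IsAffine (U : Scheme) := hU
  haveI : IsAffine (W : Scheme) := hW
  haveI : LocallyOfFinitePresentation r := inferInstance
  have sY := IsPullback.of_hasPullback W.ι qY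
  have hY' : IsPullback (pullback.fst W.ι qY) (pullback.snd W.ι qY ≫ g) (W.ι ≫ g₀) (c.π.app i₀) :=
    (sY.flip.paste_horiz hY.flip).flip
  have sX := IsPullback.of_hasPullback r (pullback.fst W.ι qY)
  let E := H8Lim.stage D (W.ι ≫ g₀)
  haveI : ∀ j, IsAffine (E.obj j) := fun j => isAffine_of_isAffineHom (H8Lim.stageFst D (W.ι ≫ g₀) j)
  have hb : P (pullback.snd r (pullback.fst W.ι qY)) := by
    apply of_comp_mono inferInstance _ (pullback.snd W.ι qY)
    let R := pullback r (pullback.fst W.ι qY)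
    have h1 : IsPullback (pullback.fst r (pullback.fst W.ι qY)) (pullback.snd r (pullback.fst W.ι qY) ≫ pullback.snd W.ι qY)
        (U.ι ≫ f₀) qY := by
      have := sX.paste_vert sY
      rwa [show r ≫ W.ι = U.ι ≫ f₀ from f₀.resLE_comp_ι e] at this
    have h2 : IsPullback (qX ∣_ U) ((qX ⁻¹ᵁ U).ι ≫ f) (U.ι ≫ f₀) qY :=
      (isPullback_morphismRestrict qX U).paste_vert hX
    have := MorphismProperty.IsStableUnderBaseChange.respectsIso (P := P)
    rw [← h1.isoIsPullback_hom_snd _ _ h2]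
    exact MorphismProperty.RespectsIso.precomp P _ _ hP
  have hsq := H8Lim.isPullback_stageProj_toStage D (W.ι ≫ g₀) r hY' sX
  haveI : LocallyOfFinitePresentation (H8Lim.toStage D (W.ι ≫ g₀) r) :=
    MorphismProperty.of_isPullback (H8Lim.isPullback_toStage D (W.ι ≫ g₀) r) ‹LocallyOfFinitePresentation r›
  obtain ⟨k, ψ, hk⟩ := hA E (H8Lim.stageCone (W.ι ≫ g₀) c _ _ hY')
    (H8Lim.isLimitStageCone (W.ι ≫ g₀) _ _ hY' hc) inferInstance (Over.mk (𝟙 i₀))
    (H8Lim.toStage D (W.ι ≫ g₀) r) inferInstance inferInstance _ _ hsq hb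
  refine ⟨k.left, k.hom, ?_⟩
  let T := pullback g₀ (D.map k.hom)
  let l : (E.obj k) ⟶ T := pullback.lift (H8Lim.stageFst D _ k ≫ W.ι) (H8Lim.stageSnd D _ k)
    (by rw [Category.assoc]; exact (H8Lim.isPullback_stage D (W.ι ≫ g₀) k).w)
  have hl : IsPullback (H8Lim.stageFst D (W.ι ≫ g₀) k) l W.ι (pullback.fst g₀ (D.map k.hom)) := by
    refine IsPullback.of_bot ?_ (pullback.lift_fst _ _ _).symm (IsPullback.of_hasPullback g₀ (D.map k.hom))
    rw [pullback.lift_snd]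
    exact H8Lim.isPullback_stage D (W.ι ≫ g₀) k
  have h3 := (H8Lim.isPullback_of_toStage D (W.ι ≫ g₀) r ψ).paste_vert hl
  rw [show r ≫ W.ι = U.ι ≫ f₀ from f₀.resLE_comp_ι e] at h3
  haveI : IsOpenImmersion l := MorphismProperty.of_isPullback hl inferInstance
  have := MorphismProperty.IsStableUnderBaseChange.respectsIso (P := P)
  rw [← h3.isoPullback_inv_snd]
  exact MorphismProperty.RespectsIso.precomp P _ _ (P.comp_mem _ _ hk (hιP l))

omit [P.IsStableUnderComposition] [IsCofiltered I] [∀ (i j : I) (f : i ⟶ j), IsAffineHom (D.map f)] in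
theorem chart_persist {Z : Scheme.{u}} {h : Z ⟶ Y₀} {j l : I} {φ : j ⟶ i₀} (ψ : l ⟶ j)
    (H : P (pullback.snd h (pullback.fst g₀ (D.map φ)))) :
    P (pullback.snd h (pullback.fst g₀ (D.map (ψ ≫ φ)))) := by
  let t : pullback g₀ (D.map (ψ ≫ φ)) ⟶ pullback g₀ (D.map φ) :=
    pullback.lift (pullback.fst _ _) (pullback.snd _ _ ≫ D.map ψ)
      (by rw [Category.assoc, ← D.map_comp]; exact pullback.condition)
  exact H8Lim.prop_snd_congr (pullback.lift_fst _ _ _) (H8Lim.prop_snd_comp H t)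

variable [IsZariskiLocalAtSource P]

include hc hY hX in
/-- Global spreading out for a property local on the source, stable under base change and composition. -/
theorem exists_stage (hA : AffineSpreads P) (hιP : ∀ {A B : Scheme.{u}} (ι : A ⟶ B) [IsOpenImmersion ι], P ι)
    [LocallyOfFinitePresentation f₀] [CompactSpace X₀] (hP : P f) :
    ∃ (j : I) (φ : j ⟶ i₀) (Xj Yj : Scheme.{u}) (fj : Xj ⟶ Yj) (gj : Yj ⟶ D.obj j) (pY : Yj ⟶ Y₀)
      (pX : Xj ⟶ X₀), IsPullback pY gj g₀ (D.map φ) ∧ IsPullback pX fj f₀ pY ∧ P fj := by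
  have hch : ∀ x : X₀, ∃ (U : X₀.Opens) (_ : x ∈ U) (j : I) (φ : j ⟶ i₀),
      P (pullback.snd (U.ι ≫ f₀) (pullback.fst g₀ (D.map φ))) := fun x => by
    obtain ⟨W, hW, hxW, -⟩ := exists_isAffineOpen_mem_and_subset (x := f₀ x) (U := ⊤) trivial
    obtain ⟨U, hU, hxU, e⟩ := exists_isAffineOpen_mem_and_subset (x := x) (U := f₀ ⁻¹ᵁ W) hxW
    exact ⟨U, hxU, exists_chart hc hY hX hA hιP hU hW e (P.comp_mem _ _ (hιP _) hP)⟩
  choose U hxU j φ hj using hch
  obtain ⟨t, ht⟩ := isCompact_univ.elim_finite_subcover (fun x => (U x : Set X₀)) (fun x => (U x).isOpen)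
    fun x _ => Set.mem_iUnion.mpr ⟨x, hxU x⟩
  obtain ⟨l, g', gk, hg⟩ := IsCofiltered.wideCospan (fun x : t => φ x.1)
  let pY := pullback.fst g₀ (D.map g')
  refine ⟨l, g', _, _, pullback.snd f₀ pY, pullback.snd g₀ (D.map g'), pY, pullback.fst f₀ pY,
    IsPullback.of_hasPullback _ _, IsPullback.of_hasPullback _ _, ?_⟩
  refine IsZariskiLocalAtSource.of_iSup_eq_top (fun x : t => pullback.fst f₀ pY ⁻¹ᵁ U x.1) ?_ fun x => ?_
  · ext z
    simp only [TopologicalSpace.Opens.coe_iSup, Set.mem_iUnion, TopologicalSpace.Opens.coe_top, Set.mem_univ, iff_true]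
    obtain ⟨x, hx, hmem⟩ := Set.mem_iUnion₂.mp (ht (Set.mem_univ (pullback.fst f₀ pY z)))
    exact ⟨⟨x, hx⟩, hmem⟩
  · have h1 := chart_persist (g₀ := g₀) (gk x) (hj x.1)
    rw [hg x] at h1
    exact H8Lim.prop_of_snd_of_isPullback
      ((isPullback_morphismRestrict (pullback.fst f₀ pY) (U x.1)).paste_vert (IsPullback.of_hasPullback f₀ pY)) h1

include hc hY hX in
/-- Spreading out around a point. -/
theorem exists_nhd_stage (hA : AffineSpreads P) (hιP : ∀ {A B : Scheme.{u}} (ι : A ⟶ B) [IsOpenImmersion ι], P ι)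
    [LocallyOfFinitePresentation f₀] (x : X) {O : X.Opens} (hxO : x ∈ O) (hP : P (O.ι ≫ f)) :
    ∃ (j : I) (φ : j ⟶ i₀) (Xj Yj : Scheme.{u}) (fj : Xj ⟶ Yj) (gj : Yj ⟶ D.obj j) (pY : Yj ⟶ Y₀)
      (pX : Xj ⟶ X₀) (rX : X ⟶ Xj), IsPullback pY gj g₀ (D.map φ) ∧ IsPullback pX fj f₀ pY ∧
        rX ≫ pX = qX ∧ rX ≫ fj ≫ gj = f ≫ g ≫ c.π.app j ∧ ∃ V : Xj.Opens, rX x ∈ V ∧ P (V.ι ≫ fj) := by
  haveI : ∀ {i j : I} (f : i ⟶ j), IsAffineHom (D.map f) := fun f => inferInstance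
  have hX' : IsPullback qX (f ≫ g) (f₀ ≫ g₀) (c.π.app i₀) := hX.paste_vert hY
  obtain ⟨k, V, hV, hxV, hVO⟩ := H8Lim.exists_mem_preimage_subset
    (H8Lim.isLimitStageCone (f₀ ≫ g₀) qX (f ≫ g) hX' hc) O.isOpen hxO
  -- descend the square to the stage `k`
  let Y₁ := pullback g₀ (D.map k.hom)
  let qY₁ : Y ⟶ Y₁ := pullback.lift qY (g ≫ c.π.app k.left) (by rw [Category.assoc, c.w]; exact hY.w)
  have hY₁ : IsPullback qY₁ g (pullback.snd g₀ (D.map k.hom)) (c.π.app k.left) := by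
    refine IsPullback.of_right ?_ (pullback.lift_snd _ _ _) (IsPullback.of_hasPullback g₀ (D.map k.hom))
    rw [pullback.lift_fst, c.w]; exact hY
  let S₁ := (H8Lim.stage D (f₀ ≫ g₀)).obj k
  let f₁ : S₁ ⟶ Y₁ := pullback.lift (H8Lim.stageFst D _ k ≫ f₀) (H8Lim.stageSnd D _ k)
    (by rw [Category.assoc]; exact (H8Lim.isPullback_stage D (f₀ ≫ g₀) k).w)
  let q₁ : X ⟶ S₁ := H8Lim.stageProj (f₀ ≫ g₀) c qX (f ≫ g) hX' k
  have hf₁ : IsPullback (H8Lim.stageFst D (f₀ ≫ g₀) k) f₁ f₀ (pullback.fst g₀ (D.map k.hom)) := by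
    refine IsPullback.of_bot ?_ (pullback.lift_fst _ _ _).symm (IsPullback.of_hasPullback g₀ (D.map k.hom))
    rw [pullback.lift_snd]
    exact H8Lim.isPullback_stage D (f₀ ≫ g₀) k
  have hq₁ : q₁ ≫ f₁ = f ≫ qY₁ := by
    apply pullback.hom_ext
    · rw [Category.assoc, Category.assoc, pullback.lift_fst, pullback.lift_fst, H8Lim.stageProj_fst_assoc, hX.w]
    · rw [Category.assoc, Category.assoc, pullback.lift_snd, pullback.lift_snd, H8Lim.stageProj_snd, Category.assoc]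
  have hX₁ : IsPullback q₁ f f₁ qY₁ :=
    IsPullback.of_right (by rw [H8Lim.stageProj_fst, pullback.lift_fst]; exact hX) hq₁ hf₁
  haveI : LocallyOfFinitePresentation f₁ := MorphismProperty.of_isPullback hf₁ ‹LocallyOfFinitePresentation f₀›
  obtain ⟨W, hW, hxW, -⟩ := exists_isAffineOpen_mem_and_subset (x := f₁ (q₁ x)) (U := ⊤) trivial
  obtain ⟨U, hU, hxU, e⟩ := exists_isAffineOpen_mem_and_subset (x := q₁ x) (U := V ⊓ f₁ ⁻¹ᵁ W) ⟨hxV, hxW⟩
  have hUO : q₁ ⁻¹ᵁ U ≤ O := fun z hz => hVO (e hz).1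
  obtain ⟨j, φ, hj⟩ := exists_chart hc hY₁ hX₁ hA hιP hU hW (fun z hz => (e hz).2) (by
    rw [show (q₁ ⁻¹ᵁ U).ι = X.homOfLE hUO ≫ O.ι from (Scheme.homOfLE_ι _ _).symm, Category.assoc]
    exact P.comp_mem _ _ (hιP _) hP)
  let pY₁ := pullback.fst (pullback.snd g₀ (D.map k.hom)) (D.map φ)
  let Yj := pullback (pullback.snd g₀ (D.map k.hom)) (D.map φ)
  let gj : Yj ⟶ D.obj j := pullback.snd _ _
  let fj : pullback f₁ pY₁ ⟶ Yj := pullback.snd _ _
  let rY : Y ⟶ Yj := pullback.lift qY₁ (g ≫ c.π.app j) (by rw [Category.assoc, c.w]; exact hY₁.w)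
  let rX : X ⟶ pullback f₁ pY₁ := pullback.lift q₁ (f ≫ rY) (by rw [Category.assoc, pullback.lift_fst, hq₁])
  refine ⟨j, φ ≫ k.hom, pullback f₁ pY₁, Yj, fj, gj, pY₁ ≫ pullback.fst _ _,
    pullback.fst f₁ pY₁ ≫ H8Lim.stageFst D _ k, rX, ?_, ?_, ?_, ?_, pullback.fst f₁ pY₁ ⁻¹ᵁ U, ?_, ?_⟩
  · rw [D.map_comp]
    exact (IsPullback.of_hasPullback _ _).paste_horiz (IsPullback.of_hasPullback g₀ (D.map k.hom))
  · exact (IsPullback.of_hasPullback f₁ pY₁).paste_horiz hf₁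
  · rw [← Category.assoc, pullback.lift_fst, H8Lim.stageProj_fst]
  · rw [← Category.assoc, pullback.lift_snd, Category.assoc, pullback.lift_snd]
  · show (rX ≫ pullback.fst f₁ pY₁) x ∈ U
    rw [pullback.lift_fst]; exact hxU
  · exact H8Lim.prop_of_snd_of_isPullback
      ((isPullback_morphismRestrict (pullback.fst f₁ pY₁) U).paste_vert (IsPullback.of_hasPullback f₁ pY₁)) hj

include hY hX in
omit [P.IsStableUnderComposition] [IsZariskiLocalAtSource P] [IsCofiltered I] [∀ (i j : I) (f : i ⟶ j), IsAffineHom (D.map f)] in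
/-- From a stage to the limit around a point. -/
theorem prop_nhd_of_stage {j : I} {φ : j ⟶ i₀} {Xj Yj : Scheme.{u}} {fj : Xj ⟶ Yj} {gj : Yj ⟶ D.obj j}
    {pY : Yj ⟶ Y₀} {pX : Xj ⟶ X₀} {rX : X ⟶ Xj} (hYj : IsPullback pY gj g₀ (D.map φ))
    (hXj : IsPullback pX fj f₀ pY) (h1 : rX ≫ pX = qX) (h2 : rX ≫ fj ≫ gj = f ≫ g ≫ c.π.app j)
    {V : Xj.Opens} (h : P (V.ι ≫ fj)) : P ((rX ⁻¹ᵁ V).ι ≫ f) := by
  have hw : qY ≫ g₀ = (g ≫ c.π.app j) ≫ D.map φ := by rw [Category.assoc, c.w]; exact hY.w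
  have h3 : rX ≫ fj = f ≫ hYj.lift qY _ hw := by
    apply hYj.hom_ext
    · rw [Category.assoc, Category.assoc, hYj.lift_fst, ← hXj.w, reassoc_of% h1, hX.w]
    · rw [Category.assoc, Category.assoc, hYj.lift_snd, h2]
  have hr : IsPullback rX f fj (hYj.lift qY _ hw) :=
    IsPullback.of_right (by rw [h1, hYj.lift_fst]; exact hX) h3 hXj
  exact MorphismProperty.of_isPullback ((isPullback_morphismRestrict rX V).paste_vert hr) h

end Groth.Agent.LimSmooth
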