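import Groth.Agent.H8Lim.BaseChange
import Groth.Agent.CAlgH.SpreadingSmooth
import Mathlib.AlgebraicGeometry.Morphisms.Etale
import Mathlib.AlgebraicGeometry.Morphisms.Affine
import Mathlib.AlgebraicGeometry.AffineTransitionLimit
import Mathlib.Algebra.Category.Ring.Constructions

/-!
# Smooth, étale and unramified morphisms spread out along affine limits (affine case)
-/

set_option autoImplicit false
set_option backward.isDefEq.respectTransparency.types false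
universe u

open CategoryTheory Limits AlgebraicGeometry TensorProduct

namespace Groth.Agent.LimSmooth

/-- A property spreads out from a limit of affine schemes to a stage, for affine sources. -/
def AffineSpreads (P : MorphismProperty Scheme.{u}) : Prop :=
  ∀ ⦃J : Type u⦄ [SmallCategory J] [IsCofiltered J] (E : J ⥤ Scheme.{u}) (cE : Cone E)
    (_ : IsLimit cE) (_ : ∀ j, IsAffine (E.obj j))
    (i : J) ⦃A₀ : Scheme.{u}⦄ (a : A₀ ⟶ E.obj i), IsAffine A₀ → LocallyOfFinitePresentation a →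
    ∀ ⦃A : Scheme.{u}⦄ (b : A ⟶ cE.pt) (p : A ⟶ A₀), IsPullback p b a (cE.π.app i) → P b →
      ∃ (j : J) (φ : j ⟶ i), P (pullback.snd a (E.map φ))

theorem prop_snd_iff {P : MorphismProperty Scheme.{u}}
    {Q : ∀ {R S : Type u} [CommRing R] [CommRing S], (R →+* S) → Prop} [HasRingHomProperty P Q]
    {W X Y Z : Scheme.{u}} [IsAffine X] [IsAffine Y] [IsAffine Z] {fst : W ⟶ X} {snd : W ⟶ Y}
    {a : X ⟶ Z} {g : Y ⟶ Z} (h : IsPullback fst snd a g) :
    P snd ↔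
      letI := a.appTop.hom.toAlgebra
      letI := g.appTop.hom.toAlgebra
      Q (algebraMap Γ(Y, ⊤) (Γ(Y, ⊤) ⊗[Γ(Z, ⊤)] Γ(X, ⊤))) := by
  letI := a.appTop.hom.toAlgebra
  letI := g.appTop.hom.toAlgebra
  letI := snd.appTop.hom.toAlgebra
  letI := fst.appTop.hom.toAlgebra
  letI : Algebra Γ(Z, ⊤) Γ(W, ⊤) := (a.appTop ≫ fst.appTop).hom.toAlgebra
  have hp := (isPushout_appTop_of_isPullback h).flip
  haveI : IsScalarTower Γ(Z, ⊤) Γ(X, ⊤) Γ(W, ⊤) := IsScalarTower.of_algebraMap_eq' rfl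
  haveI : IsScalarTower Γ(Z, ⊤) Γ(Y, ⊤) Γ(W, ⊤) :=
    IsScalarTower.of_algebraMap_eq' (congrArg CommRingCat.Hom.hom hp.w).symm
  haveI : Algebra.IsPushout Γ(Z, ⊤) Γ(Y, ⊤) Γ(X, ⊤) Γ(W, ⊤) :=
    CommRingCat.isPushout_iff_isPushout.mp hp
  have hW : IsAffine W := .of_isPullback h
  rw [HasRingHomProperty.iff_of_isAffine (P := P)]
  have e := (Algebra.IsPushout.equiv Γ(Z, ⊤) Γ(Y, ⊤) Γ(X, ⊤) Γ(W, ⊤))
  have hQ := (HasRingHomProperty.isLocal_ringHomProperty P).respectsIso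
  refine ⟨fun H => ?_, fun H => ?_⟩
  · have := hQ.left _ e.symm.toRingEquiv H
    convert! this using 1
    exact e.symm.toAlgHom.comp_algebraMap.symm
  · have := hQ.left _ e.toRingEquiv H
    convert! this using 1
    exact e.toAlgHom.comp_algebraMap.symm

variable {J : Type u} [SmallCategory J] [IsCofiltered J] {E : J ⥤ Scheme.{u}} [∀ j, IsAffine (E.obj j)]
  {cE : Cone E}

/-- Functions on stages over `i` as algebras over functions on `E i`. -/
theorem colimSys_appTop (hc : IsLimit cE) (i : J) :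
    letI : ∀ j : Over i, Algebra Γ(E.obj i, ⊤) Γ(E.obj j.left, ⊤) := fun j => (E.map j.hom).appTop.hom.toAlgebra
    letI : Algebra Γ(E.obj i, ⊤) Γ(cE.pt, ⊤) := (cE.π.app i).appTop.hom.toAlgebra
    CAlgH.ColimSys (R := Γ(E.obj i, ⊤)) (G := fun j : Over i => Γ(E.obj j.left, ⊤)) (A := Γ(cE.pt, ⊤))
      (fun j => ⟨(cE.π.app j.left).appTop.hom, fun r => by
        show ((E.map j.hom).appTop ≫ (cE.π.app j.left).appTop) r = (cE.π.app i).appTop r
        rw [← Scheme.Hom.comp_appTop, cE.w]⟩) := by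
  letI : ∀ j : Over i, Algebra Γ(E.obj i, ⊤) Γ(E.obj j.left, ⊤) := fun j => (E.map j.hom).appTop.hom.toAlgebra
  letI : Algebra Γ(E.obj i, ⊤) Γ(cE.pt, ⊤) := (cE.π.app i).appTop.hom.toAlgebra
  have compat : ∀ {j k : Over i} (ψ : k ⟶ j),
      ∃ h : Γ(E.obj j.left, ⊤) →ₐ[Γ(E.obj i, ⊤)] Γ(E.obj k.left, ⊤), h.toRingHom = (E.map ψ.left).appTop.hom :=
    fun {j k} ψ => ⟨⟨(E.map ψ.left).appTop.hom, fun r => by
      show ((E.map j.hom).appTop ≫ (E.map ψ.left).appTop) r = (E.map k.hom).appTop r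
      rw [← Scheme.Hom.comp_appTop, ← E.map_comp, Over.w ψ]⟩, rfl⟩
  refine ⟨⟨Over.mk (𝟙 i)⟩, fun j k => ?_, fun s => ?_, fun j x hx => ?_⟩
  · obtain ⟨l, p, q, hpq⟩ : ∃ (l : J) (p : l ⟶ j.left) (q : l ⟶ k.left), p ≫ j.hom = q ≫ k.hom := by
      obtain ⟨l, p, q, h⟩ := IsCofiltered.cospan j.hom k.hom
      exact ⟨l, p, q, h⟩
    let L : Over i := Over.mk (p ≫ j.hom)
    obtain ⟨h₁, e₁⟩ := compat (Over.homMk p rfl : L ⟶ j)
    obtain ⟨h₂, e₂⟩ := compat (Over.homMk q hpq.symm : L ⟶ k)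
    refine ⟨L, ⟨⟨h₁, AlgHom.ext fun r => ?_⟩⟩, ⟨⟨h₂, AlgHom.ext fun r => ?_⟩⟩⟩
    · show (cE.π.app l).appTop (h₁.toRingHom r) = _
      rw [e₁]
      show ((E.map p).appTop ≫ (cE.π.app l).appTop) r = _
      rw [← Scheme.Hom.comp_appTop, cE.w]; rfl
    · show (cE.π.app l).appTop (h₂.toRingHom r) = _
      rw [e₂]
      show ((E.map q).appTop ≫ (cE.π.app l).appTop) r = _
      rw [← Scheme.Hom.comp_appTop, cE.w]; rfl
  · obtain ⟨m, t, ht⟩ := exists_appTop_π_eq_of_isAffine_of_isLimit E cE hc s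
    refine ⟨Over.mk (IsCofiltered.minToRight m i), (E.map (IsCofiltered.minToLeft m i)).appTop t, ?_⟩
    show ((E.map (IsCofiltered.minToLeft m i)).appTop ≫ (cE.π.app _).appTop) t = s
    rw [← Scheme.Hom.comp_appTop, cE.w, ht]
  · haveI : ∀ {i j : J} (φ : i ⟶ j), IsAffineHom (E.map φ) := fun φ => inferInstance
    obtain ⟨k, ψ, hk⟩ := exists_app_map_eq_map_of_isLimit E cE hc (U := (⊤ : (E.obj j.left).Opens))
      isCompact_univ x 0 (by rw [map_zero]; exact hx)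
    let L : Over i := Over.mk (ψ ≫ j.hom)
    obtain ⟨h, e⟩ := compat (Over.homMk ψ rfl : L ⟶ j)
    refine ⟨L, ⟨h, AlgHom.ext fun r => ?_⟩, ?_⟩
    · show (cE.π.app k).appTop (h.toRingHom r) = _
      rw [e]
      show ((E.map ψ).appTop ≫ (cE.π.app k).appTop) r = _
      rw [← Scheme.Hom.comp_appTop, cE.w]; rfl
    · show h.toRingHom x = 0
      rw [e]
      rw [map_zero] at hk
      exact hk

theorem affineSpreads_formallyUnramified : AffineSpreads.{u} @FormallyUnramified := by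
  intro J _ _ E cE hc haff i A₀ a hA₀ ha A b p sq hb
  have := haff
  letI := a.appTop.hom.toAlgebra
  letI : ∀ j : Over i, Algebra Γ(E.obj i, ⊤) Γ(E.obj j.left, ⊤) := fun j => (E.map j.hom).appTop.hom.toAlgebra
  letI : Algebra Γ(E.obj i, ⊤) Γ(cE.pt, ⊤) := (cE.π.app i).appTop.hom.toAlgebra
  haveI : IsAffine cE.pt := Scheme.isAffine_of_isLimit cE hc
  haveI : Algebra.FinitePresentation Γ(E.obj i, ⊤) Γ(A₀, ⊤) :=
    (HasRingHomProperty.iff_of_isAffine (P := @LocallyOfFinitePresentation)).mp ha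
  have hs := colimSys_appTop hc i
  have h1 := RingHom.formallyUnramified_algebraMap.mp ((prop_snd_iff (P := @FormallyUnramified) sq).mp hb)
  obtain ⟨j, -, hj⟩ := hs.unramified_spreads Γ(A₀, ⊤) (Over.mk (𝟙 i)) h1
  exact ⟨j.left, j.hom, (prop_snd_iff (P := @FormallyUnramified) (IsPullback.of_hasPullback a (E.map j.hom))).mpr
    (RingHom.formallyUnramified_algebraMap.mpr hj)⟩

theorem affineSpreads_smooth : AffineSpreads.{u} @Smooth := by
  intro J _ _ E cE hc haff i A₀ a hA₀ ha A b p sq hb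
  have := haff
  letI := a.appTop.hom.toAlgebra
  letI : ∀ j : Over i, Algebra Γ(E.obj i, ⊤) Γ(E.obj j.left, ⊤) := fun j => (E.map j.hom).appTop.hom.toAlgebra
  letI : Algebra Γ(E.obj i, ⊤) Γ(cE.pt, ⊤) := (cE.π.app i).appTop.hom.toAlgebra
  haveI : IsAffine cE.pt := Scheme.isAffine_of_isLimit cE hc
  haveI : Algebra.FinitePresentation Γ(E.obj i, ⊤) Γ(A₀, ⊤) :=
    (HasRingHomProperty.iff_of_isAffine (P := @LocallyOfFinitePresentation)).mp ha
  have hs := colimSys_appTop hc i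
  have h1 := RingHom.smooth_algebraMap.mp ((prop_snd_iff (P := @Smooth) sq).mp hb)
  obtain ⟨j, -, hj⟩ := hs.smooth_spreads Γ(A₀, ⊤) (Over.mk (𝟙 i)) h1.formallySmooth
  exact ⟨j.left, j.hom, (prop_snd_iff (P := @Smooth) (IsPullback.of_hasPullback a (E.map j.hom))).mpr
    (RingHom.smooth_algebraMap.mpr ⟨hj, inferInstance⟩)⟩

theorem affineSpreads_etale : AffineSpreads.{u} @Etale := by
  intro J _ _ E cE hc haff i A₀ a hA₀ ha A b p sq hb
  have := haff
  letI := a.appTop.hom.toAlgebra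
  letI : ∀ j : Over i, Algebra Γ(E.obj i, ⊤) Γ(E.obj j.left, ⊤) := fun j => (E.map j.hom).appTop.hom.toAlgebra
  letI : Algebra Γ(E.obj i, ⊤) Γ(cE.pt, ⊤) := (cE.π.app i).appTop.hom.toAlgebra
  haveI : IsAffine cE.pt := Scheme.isAffine_of_isLimit cE hc
  haveI : Algebra.FinitePresentation Γ(E.obj i, ⊤) Γ(A₀, ⊤) :=
    (HasRingHomProperty.iff_of_isAffine (P := @LocallyOfFinitePresentation)).mp ha
  have hs := colimSys_appTop hc i
  have h1 := RingHom.etale_algebraMap.mp ((prop_snd_iff (P := @Etale) sq).mp hb)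
  haveI := h1.formallyEtale
  obtain ⟨j, -, hj⟩ := hs.smooth_spreads Γ(A₀, ⊤) (Over.mk (𝟙 i)) inferInstance
  obtain ⟨k, ⟨hjk⟩, hk⟩ := hs.unramified_spreads Γ(A₀, ⊤) j inferInstance
  have := CAlgH.formallySmooth_bc_map Γ(A₀, ⊤) hjk.1 hj
  exact ⟨k.left, k.hom, (prop_snd_iff (P := @Etale) (IsPullback.of_hasPullback a (E.map k.hom))).mpr
    (RingHom.etale_algebraMap.mpr
      { formallyEtale := Algebra.FormallyEtale.of_formallyUnramified_and_formallySmooth
        finitePresentation := inferInstance })⟩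

end Groth.Agent.LimSmooth
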